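import Mathlib

set_option autoImplicit false

namespace Cfsg.Agent.H69

open MulAction

/-- A nontrivial transitive action of a finite group has a fixed-point-free element. -/
theorem exists_fixedPointFree {G X : Type*} [Group G] [Finite G] [MulAction G X]
    [IsPretransitive G X] (x₀ x₁ : X) (h : x₀ ≠ x₁) : ∃ g : G, ∀ x : X, g • x ≠ x := by
  classical
  have hfin : Finite X :=
    Finite.of_surjective (fun g : G => g • x₀) (surjective_smul G x₀)
  cases nonempty_fintype X
  cases nonempty_fintype G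
  by_contra hc
  simp only [not_exists, not_forall, not_not] at hc
  have hb := sum_card_fixedBy_eq_card_orbits_mul_card_group G X
  have hsub : Subsingleton (orbitRel.Quotient G X) :=
    (pretransitive_iff_subsingleton_quotient G X).1 inferInstance
  haveI : Nonempty (orbitRel.Quotient G X) := ⟨Quotient.mk'' x₀⟩
  haveI : Unique (orbitRel.Quotient G X) := uniqueOfSubsingleton (Quotient.mk'' x₀)
  have hΩ : Fintype.card (orbitRel.Quotient G X) = 1 := Fintype.card_unique
  have hlt : (∑ _g : G, 1) < ∑ g : G, Fintype.card (fixedBy X g) := by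
    apply Finset.sum_lt_sum
    · intro g _
      obtain ⟨x, hx⟩ := hc g
      exact Fintype.card_pos_iff.2 ⟨⟨x, hx⟩⟩
    · refine ⟨1, Finset.mem_univ _, ?_⟩
      exact Fintype.one_lt_card_iff.2
        ⟨⟨x₀, by simp [mem_fixedBy]⟩, ⟨x₁, by simp [mem_fixedBy]⟩, by simpa [Subtype.ext_iff]⟩
  rw [hb, hΩ] at hlt
  simp at hlt

/-- A finite group is not covered by the conjugates of a proper subgroup. -/
theorem exists_not_conj_mem {G : Type*} [Group G] [Finite G] (R : Subgroup G) (hR : R ≠ ⊤) :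
    ∃ d : G, ∀ x : G, x⁻¹ * d * x ∉ R := by
  obtain ⟨g, hg⟩ : ∃ g : G, g ∉ R := by
    by_contra hc
    simp only [not_exists, not_not] at hc
    exact hR (eq_top_iff.2 fun x _ => hc x)
  obtain ⟨d, hd⟩ := exists_fixedPointFree (G := G) (QuotientGroup.mk (1 : G) : G ⧸ R)
    (QuotientGroup.mk g) (by
      intro h
      rw [QuotientGroup.eq] at h
      simp at h
      exact hg h)
  refine ⟨d, fun x hx => hd (QuotientGroup.mk x) ?_⟩
  rw [MulAction.Quotient.smul_mk]
  rw [QuotientGroup.eq]
  have : (x⁻¹ * d * x)⁻¹ ∈ R := R.inv_mem hx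
  simpa [mul_assoc, smul_eq_mul] using this

/-- A nontrivial finite group has a minimal normal subgroup. -/
theorem exists_minimal_normal {G : Type*} [Group G] [Finite G] [Nontrivial G] :
    ∃ N : Subgroup G, N.Normal ∧ N ≠ ⊥ ∧
      ∀ M : Subgroup G, M.Normal → M ≠ ⊥ → M ≤ N → M = N := by
  have hne : ({N : Subgroup G | N.Normal ∧ N ≠ ⊥}).Nonempty :=
    ⟨⊤, inferInstance, top_ne_bot⟩
  obtain ⟨N, hN, hmin⟩ := Set.Finite.exists_minimal (Set.toFinite _) hne
  exact ⟨N, hN.1, hN.2, fun M hM hM' hle => le_antisymm hle (hmin ⟨hM, hM'⟩ hle)⟩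

/-- A p-subgroup meets the centraliser of itself nontrivially. -/
theorem inf_centralizer_ne_bot {G : Type*} [Group G] [Finite G] {p : ℕ} [Fact p.Prime]
    (N : Subgroup G) (hN : N ≠ ⊥) (hp : IsPGroup p N) :
    N ⊓ Subgroup.centralizer (N : Set G) ≠ ⊥ := by
  haveI : Nontrivial N := (Subgroup.nontrivial_iff_ne_bot N).2 hN
  haveI := hp.center_nontrivial
  obtain ⟨⟨z, hz⟩, hz1⟩ := exists_ne (1 : Subgroup.center N)
  intro h
  have hmem : (z : G) ∈ N ⊓ Subgroup.centralizer (N : Set G) := by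
    refine ⟨z.2, ?_⟩
    intro y hy
    exact congrArg Subtype.val (Subgroup.mem_center_iff.1 hz ⟨y, hy⟩)
  rw [h, Subgroup.mem_bot] at hmem
  apply hz1
  ext
  simpa using hmem

end Cfsg.Agent.H69
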