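import Mathlib

set_option autoImplicit false
set_option linter.style.haveILetI false

/-!
Groups of unbounded order with the spectrum of the fourth power of a group having the element orders
of `J₁`: products of generalised dihedral groups.
-/

namespace Cfsg.Agent.H69.DihedralSpectrum

open SemidirectProduct

/-- Inversion as an action of the group of order 2. -/
def invAct (A : Type) [CommGroup A] : Multiplicative (ZMod 2) →* MulAut A where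
  toFun x := if x = 1 then 1 else MulEquiv.inv A
  map_one' := by simp
  map_mul' x y := by
    have key : ∀ x y : Multiplicative (ZMod 2), (x = 1 ∨ y = 1) ∨ (x * y = 1 ∧ x ≠ 1 ∧ y ≠ 1) := by decide
    rcases key x y with (rfl | rfl) | ⟨h, hx, hy⟩
    · simp
    · simp
    · rw [if_pos h, if_neg hx, if_neg hy]
      ext a
      simp

/-- The generalised dihedral group on `(ℤ/r)^k`. -/
abbrev GenDih (r k : ℕ) : Type :=
  Multiplicative (Fin k → ZMod r) ⋊[invAct (Multiplicative (Fin k → ZMod r))] Multiplicative (ZMod 2)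

theorem genDih_orders (r k : ℕ) (hr : r.Prime) (hk : 1 ≤ k) :
    Set.range (orderOf : GenDih r k → ℕ) = {1, 2, r} := by
  haveI : Fact r.Prime := ⟨hr⟩
  haveI : NeZero r := ⟨hr.ne_zero⟩
  have hsq : ∀ g : GenDih r k, g.right ≠ 1 → orderOf g = 2 := by
    intro g hg
    refine orderOf_eq_prime ?_ fun h => hg (by rw [h]; rfl)
    rw [pow_two]
    ext i
    · rw [mul_left, one_left]
      simp [invAct, hg]
    · rw [mul_right, one_right]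
      revert hg
      generalize g.right = x
      revert x
      decide
  have hr' : ∀ g : GenDih r k, g.right = 1 → g = inl g.left := fun g hg => by ext <;> simp [hg]
  have hA : ∀ a : Multiplicative (Fin k → ZMod r), a ^ r = 1 := by
    intro a
    apply Multiplicative.toAdd.injective
    funext i
    simp
  ext m
  constructor
  · rintro ⟨g, rfl⟩
    by_cases hg : g.right = 1
    · rw [hr' g hg, orderOf_injective _ inl_injective]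
      rcases (Nat.dvd_prime hr).1 (orderOf_dvd_of_pow_eq_one (hA g.left)) with h | h <;> simp [h]
    · simp [hsq g hg]
  · rintro (rfl | rfl | rfl)
    · exact ⟨1, orderOf_one⟩
    · exact ⟨inr (Multiplicative.ofAdd 1), hsq _ (by simp)⟩
    · refine ⟨inl (Multiplicative.ofAdd fun _ => 1), ?_⟩
      rw [orderOf_injective _ inl_injective]
      refine orderOf_eq_prime (hA _) fun h => ?_
      have := congrArg (fun a : Multiplicative (Fin k → ZMod m) => Multiplicative.toAdd a ⟨0, hk⟩) h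
      simp at this

theorem card_genDih (r k : ℕ) [NeZero r] : Nat.card (GenDih r k) = r ^ k * 2 := by
  rw [SemidirectProduct.card]
  simp

/-- The element orders of `J₁`. -/
def jOrders : List ℕ := [1, 2, 3, 5, 6, 7, 10, 11, 15, 19]

/-- The proper divisors of `43890 = 2·3·5·7·11·19`. -/
def properDivs : List ℕ := [1,2,3,5,6,7,10,11,14,15,19,21,22,30,33,35,38,42,55,57,66,70,77,95,105,110,114,
    133,154,165,190,209,210,231,266,285,330,385,399,418,462,570,627,665,770,798,1045,1155,1254,1330,1463,1995,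
    2090,2310,2926,3135,3990,4389,6270,7315,8778,14630,21945]

/-- Least common multiples of two members of `jOrders`. -/
def pairLcms : List ℕ := [1,2,3,5,6,7,10,11,14,15,19,21,22,30,33,35,38,42,55,57,66,70,77,95,105,110,114,133,165,190,
    209,285]

/-- Least common multiples of three members of `jOrders`. -/
def tripleLcms : List ℕ := [1,2,3,5,6,7,10,11,14,15,19,21,22,30,33,35,38,42,55,57,66,70,77,95,105,110,114,133,154,165,
    190,209,210,231,266,285,330,385,399,418,462,570,627,665,770,798,1045,1155,1254,1330,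
    1463,1995,2090,3135]

theorem range_four {J : Type*} [Group J] (h : ∀ m, m ∈ Set.range (orderOf : J → ℕ) ↔ m ∈ jOrders) :
    ∀ m, m ∈ Set.range (orderOf : J × J × J × J → ℕ) ↔ m ∈ properDivs := by
  have h2 : ∀ a ∈ jOrders, ∀ b ∈ jOrders, Nat.lcm a b ∈ pairLcms := by decide +kernel
  have h3 : ∀ a ∈ jOrders, ∀ b ∈ pairLcms, Nat.lcm a b ∈ tripleLcms := by decide +kernel
  have h4 : ∀ a ∈ jOrders, ∀ b ∈ tripleLcms, Nat.lcm a b ∈ properDivs := by decide +kernel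
  have hsub : ∀ a ∈ jOrders, ∀ b ∈ jOrders, ∀ c ∈ jOrders, ∀ d ∈ jOrders,
      Nat.lcm a (Nat.lcm b (Nat.lcm c d)) ∈ properDivs := fun a ha b hb c hc d hd =>
    h4 a ha _ (h3 b hb _ (h2 c hc d hd))
  have hwit : ∀ p ∈ List.zip properDivs [(1,1,1,1),(1,1,1,2),(1,1,1,3),(1,1,1,5),(1,1,1,6),(1,1,1,7),(1,1,
    1,10),(1,1,1,11),(1,1,2,7),(1,1,1,15),(1,1,1,19),(1,1,3,7),(1,1,2,11),(1,1,2,15),(1,1,3,11),(1,1,5,7),(1,
    1,2,19),(1,1,6,7),(1,1,5,11),(1,1,3,19),(1,1,6,11),(1,1,7,10),(1,1,7,11),(1,1,5,19),(1,1,7,15),(1,1,10,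
    11),(1,1,6,19),(1,1,7,19),(1,2,7,11),(1,1,11,15),(1,1,10,19),(1,1,11,19),(1,2,7,15),(1,3,7,11),(1,2,7,19),
    (1,1,15,19),(1,2,11,15),(1,5,7,11),(1,3,7,19),(1,2,11,19),(1,6,7,11),(1,2,15,19),(1,3,11,19),(1,5,7,19),
    (1,7,10,11),(1,6,7,19),(1,5,11,19),(1,7,11,15),(1,6,11,19),(1,7,10,19),(1,7,11,19),(1,7,15,19),(1,10,11,
    19),(2,7,11,15),(2,7,11,19),(1,11,15,19),(2,7,15,19),(3,7,11,19),(2,11,15,19),(5,7,11,19),(6,7,11,19),(7,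
    10,11,19),(7,11,15,19)],
      (p.2.1 ∈ jOrders ∧ p.2.2.1 ∈ jOrders ∧ p.2.2.2.1 ∈ jOrders ∧ p.2.2.2.2 ∈ jOrders) ∧
        Nat.lcm p.2.1 (Nat.lcm p.2.2.1 (Nat.lcm p.2.2.2.1 p.2.2.2.2)) = p.1 := by decide +kernel
  have hall : (List.zip properDivs [(1,1,1,1),(1,1,1,2),(1,1,1,3),(1,1,1,5),(1,1,1,6),(1,1,1,7),(1,1,1,
    10),(1,1,1,11),(1,1,2,7),(1,1,1,15),(1,1,1,19),(1,1,3,7),(1,1,2,11),(1,1,2,15),(1,1,3,11),(1,1,5,7),(1,1,
    2,19),(1,1,6,7),(1,1,5,11),(1,1,3,19),(1,1,6,11),(1,1,7,10),(1,1,7,11),(1,1,5,19),(1,1,7,15),(1,1,10,11),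
    (1,1,6,19),(1,1,7,19),(1,2,7,11),(1,1,11,15),(1,1,10,19),(1,1,11,19),(1,2,7,15),(1,3,7,11),(1,2,7,19),(1,
    1,15,19),(1,2,11,15),(1,5,7,11),(1,3,7,19),(1,2,11,19),(1,6,7,11),(1,2,15,19),(1,3,11,19),(1,5,7,19),(1,7,
    10,11),(1,6,7,19),(1,5,11,19),(1,7,11,15),(1,6,11,19),(1,7,10,19),(1,7,11,19),(1,7,15,19),(1,10,11,19),(2,
    7,11,15),(2,7,11,19),(1,11,15,19),(2,7,15,19),(3,7,11,19),(2,11,15,19),(5,7,11,19),(6,7,11,19),(7,10,11,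
    19),(7,11,15,19)]).map Prod.fst = properDivs := by decide +kernel
  intro m
  constructor
  · rintro ⟨⟨a, b, c, d⟩, rfl⟩
    rw [Prod.orderOf, Prod.orderOf, Prod.orderOf]
    exact hsub _ ((h _).1 ⟨a, rfl⟩) _ ((h _).1 ⟨b, rfl⟩) _ ((h _).1 ⟨c, rfl⟩) _ ((h _).1 ⟨d, rfl⟩)
  · intro hm
    rw [← hall, List.mem_map] at hm
    obtain ⟨p, hp, rfl⟩ := hm
    obtain ⟨⟨ha, hb, hc, hd⟩, he⟩ := hwit p hp
    obtain ⟨a, ha⟩ := (h _).2 ha
    obtain ⟨b, hb⟩ := (h _).2 hb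
    obtain ⟨c, hc⟩ := (h _).2 hc
    obtain ⟨d, hd⟩ := (h _).2 hd
    exact ⟨(a, b, c, d), by rw [Prod.orderOf, Prod.orderOf, Prod.orderOf, ha, hb, hc, hd, he]⟩

theorem range_dihedral (k : ℕ) (hk : 1 ≤ k) :
    ∀ m, m ∈ Set.range
      (orderOf : GenDih 3 k × GenDih 5 1 × GenDih 7 1 × GenDih 11 1 × GenDih 19 1 → ℕ) ↔
      m ∈ properDivs := by
  have key : ∀ r k', r.Prime → 1 ≤ k' →
      ∀ m, m ∈ Set.range (orderOf : GenDih r k' → ℕ) ↔ m ∈ [1, 2, r] := fun r k' hr hk' m => by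
    rw [genDih_orders r k' hr hk']; simp
  have h3 := key 3 k (by norm_num) hk
  have h5 := key 5 1 (by norm_num) le_rfl
  have h7 := key 7 1 (by norm_num) le_rfl
  have h11 := key 11 1 (by norm_num) le_rfl
  have h19 := key 19 1 (by norm_num) le_rfl
  have hsub : ∀ a ∈ [1, 2, 3], ∀ b ∈ [1, 2, 5], ∀ c ∈ [1, 2, 7], ∀ d ∈ [1, 2, 11], ∀ e ∈ [1, 2, 19],
      Nat.lcm a (Nat.lcm b (Nat.lcm c (Nat.lcm d e))) ∈ properDivs := by decide +kernel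
  have hwit : ∀ p ∈ List.zip properDivs [(1,1,1,1,1),(1,1,1,1,2),(3,1,1,1,1),(1,5,1,1,1),(3,1,1,1,2),(1,1,
    7,1,1),(1,5,1,1,2),(1,1,1,11,1),(1,1,7,1,2),(3,5,1,1,1),(1,1,1,1,19),(3,1,7,1,1),(1,1,1,11,2),(3,5,1,1,2),
    (3,1,1,11,1),(1,5,7,1,1),(1,1,1,2,19),(3,1,7,1,2),(1,5,1,11,1),(3,1,1,1,19),(3,1,1,11,2),(1,5,7,1,2),(1,1,
    7,11,1),(1,5,1,1,19),(3,5,7,1,1),(1,5,1,11,2),(3,1,1,2,19),(1,1,7,1,19),(1,1,7,11,2),(3,5,1,11,1),(1,5,1,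
    2,19),(1,1,1,11,19),(3,5,7,1,2),(3,1,7,11,1),(1,1,7,2,19),(3,5,1,1,19),(3,5,1,11,2),(1,5,7,11,1),(3,1,7,1,
    19),(1,1,2,11,19),(3,1,7,11,2),(3,5,1,2,19),(3,1,1,11,19),(1,5,7,1,19),(1,5,7,11,2),(3,1,7,2,19),(1,5,1,
    11,19),(3,5,7,11,1),(3,1,2,11,19),(1,5,7,2,19),(1,1,7,11,19),(3,5,7,1,19),(1,5,2,11,19),(3,5,7,11,2),(1,2,
    7,11,19),(3,5,1,11,19),(3,5,7,2,19),(3,1,7,11,19),(3,5,2,11,19),(1,5,7,11,19),(3,2,7,11,19),(2,5,7,11,19),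
    (3,5,7,11,19)],
      (p.2.1 ∈ [1, 2, 3] ∧ p.2.2.1 ∈ [1, 2, 5] ∧ p.2.2.2.1 ∈ [1, 2, 7] ∧ p.2.2.2.2.1 ∈ [1, 2, 11] ∧
        p.2.2.2.2.2 ∈ [1, 2, 19]) ∧
        Nat.lcm p.2.1 (Nat.lcm p.2.2.1 (Nat.lcm p.2.2.2.1 (Nat.lcm p.2.2.2.2.1 p.2.2.2.2.2))) = p.1 := by
    decide +kernel
  have hall : (List.zip properDivs [(1,1,1,1,1),(1,1,1,1,2),(3,1,1,1,1),(1,5,1,1,1),(3,1,1,1,2),(1,1,7,1,
    1),(1,5,1,1,2),(1,1,1,11,1),(1,1,7,1,2),(3,5,1,1,1),(1,1,1,1,19),(3,1,7,1,1),(1,1,1,11,2),(3,5,1,1,2),(3,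
    1,1,11,1),(1,5,7,1,1),(1,1,1,2,19),(3,1,7,1,2),(1,5,1,11,1),(3,1,1,1,19),(3,1,1,11,2),(1,5,7,1,2),(1,1,7,
    11,1),(1,5,1,1,19),(3,5,7,1,1),(1,5,1,11,2),(3,1,1,2,19),(1,1,7,1,19),(1,1,7,11,2),(3,5,1,11,1),(1,5,1,2,
    19),(1,1,1,11,19),(3,5,7,1,2),(3,1,7,11,1),(1,1,7,2,19),(3,5,1,1,19),(3,5,1,11,2),(1,5,7,11,1),(3,1,7,1,
    19),(1,1,2,11,19),(3,1,7,11,2),(3,5,1,2,19),(3,1,1,11,19),(1,5,7,1,19),(1,5,7,11,2),(3,1,7,2,19),(1,5,1,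
    11,19),(3,5,7,11,1),(3,1,2,11,19),(1,5,7,2,19),(1,1,7,11,19),(3,5,7,1,19),(1,5,2,11,19),(3,5,7,11,2),(1,2,
    7,11,19),(3,5,1,11,19),(3,5,7,2,19),(3,1,7,11,19),(3,5,2,11,19),(1,5,7,11,19),(3,2,7,11,19),(2,5,7,11,19),
    (3,5,7,11,19)]).map Prod.fst = properDivs := by decide +kernel
  intro m
  constructor
  · rintro ⟨⟨a, b, c, d, e⟩, rfl⟩
    rw [Prod.orderOf, Prod.orderOf, Prod.orderOf, Prod.orderOf]
    exact hsub _ ((h3 _).1 ⟨a, rfl⟩) _ ((h5 _).1 ⟨b, rfl⟩) _ ((h7 _).1 ⟨c, rfl⟩) _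
      ((h11 _).1 ⟨d, rfl⟩) _ ((h19 _).1 ⟨e, rfl⟩)
  · intro hm
    rw [← hall, List.mem_map] at hm
    obtain ⟨p, hp, rfl⟩ := hm
    obtain ⟨⟨ha, hb, hc, hd, he'⟩, he⟩ := hwit p hp
    obtain ⟨a, ha⟩ := (h3 _).2 ha
    obtain ⟨b, hb⟩ := (h5 _).2 hb
    obtain ⟨c, hc⟩ := (h7 _).2 hc
    obtain ⟨d, hd⟩ := (h11 _).2 hd
    obtain ⟨e, he'⟩ := (h19 _).2 he'
    exact ⟨(a, b, c, d, e), by
      rw [Prod.orderOf, Prod.orderOf, Prod.orderOf, Prod.orderOf, ha, hb, hc, hd, he', he]⟩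

/-- Arbitrarily large groups with the spectrum of `J⁴`. -/
theorem exists_large {J : Type*} [Group J]
    (h : ∀ m, m ∈ Set.range (orderOf : J → ℕ) ↔ m ∈ jOrders) (N : ℕ) :
    ∃ (H : Type) (_ : Group H) (_ : Fintype H), N < Fintype.card H ∧
      Set.range (orderOf : H → ℕ) = Set.range (orderOf : J × J × J × J → ℕ) := by
  haveI : ∀ r k : ℕ, [NeZero r] → Finite (GenDih r k) := fun r k _ =>
    Finite.of_equiv _ SemidirectProduct.equivProd.symm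
  haveI : Finite (GenDih 3 (N + 1) × GenDih 5 1 × GenDih 7 1 × GenDih 11 1 × GenDih 19 1) := inferInstance
  letI := Fintype.ofFinite (GenDih 3 (N + 1) × GenDih 5 1 × GenDih 7 1 × GenDih 11 1 × GenDih 19 1)
  refine ⟨GenDih 3 (N + 1) × GenDih 5 1 × GenDih 7 1 × GenDih 11 1 × GenDih 19 1, inferInstance,
    inferInstance, ?_, ?_⟩
  · rw [← Nat.card_eq_fintype_card]
    simp only [Nat.card_prod, card_genDih]
    have h3 : N + 1 < 3 ^ (N + 1) := Nat.lt_pow_self (by norm_num)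
    nlinarith
  · ext m
    rw [range_dihedral (N + 1) (by omega) m, range_four h m]

end Cfsg.Agent.H69.DihedralSpectrum
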