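import Mathlib

set_option autoImplicit false
set_option linter.style.haveILetI false

/-!
Minimal Frobenius groups `GF(r^d) ⋊ C_t`, `d` the order of `r` modulo `t`.
-/

namespace Cfsg.Agent.H69.MinFrobenius

open SemidirectProduct

/-- What is needed of a minimal Frobenius group with kernel exponent `r` and complement order `t`. -/
structure IsMinFrob (G : Type*) [Group G] (r t : ℕ) : Prop where
  orders : ∀ g : G, orderOf g = 1 ∨ orderOf g = r ∨ orderOf g = t
  exists_r : ∃ g : G, orderOf g = r
  exists_t : ∃ g : G, orderOf g = t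
  gen : ∀ H : Subgroup G, (∃ x ∈ H, orderOf x = r) → (∃ x ∈ H, orderOf x = t) → H = ⊤
  absorb : ∀ N : Subgroup G, N.Normal → N ≠ ⊥ → ∀ x : G, orderOf x = r → x ∈ N
  card : ∃ d : ℕ, 1 ≤ d ∧ Nat.card G = r ^ d * t ∧ (d = 1 → t ∣ r - 1)

theorem exists_isMinFrob (r t : ℕ) (hr : r.Prime) (ht : t.Prime) (hrt : r ≠ t) :
    ∃ (G : Type) (_ : Group G) (_ : Finite G), IsMinFrob G r t := by
  haveI : Fact r.Prime := ⟨hr⟩
  haveI : Fact t.Prime := ⟨ht⟩
  have hu : (r : ZMod t) ≠ 0 := by
    intro h
    rw [ZMod.natCast_eq_zero_iff] at h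
    exact hrt ((Nat.prime_dvd_prime_iff_eq ht hr).1 h).symm
  obtain ⟨d, hd⟩ : ∃ d, d = orderOf (r : ZMod t) := ⟨_, rfl⟩
  have hd1 : 1 ≤ d := by
    rw [hd, Nat.one_le_iff_ne_zero, Ne, orderOf_eq_zero_iff, not_not,
      isOfFinOrder_iff_pow_eq_one]
    exact ⟨t - 1, Nat.sub_pos_of_lt ht.one_lt, ZMod.pow_card_sub_one_eq_one hu⟩
  have hdiv : ∀ e, t ∣ r ^ e - 1 → d ∣ e := by
    intro e he
    rw [hd, orderOf_dvd_iff_pow_eq_one]
    have h1 : ((r ^ e - 1 : ℕ) : ZMod t) = 0 := (ZMod.natCast_eq_zero_iff _ _).2 he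
    rw [Nat.cast_sub (Nat.one_le_pow _ _ hr.pos), sub_eq_zero] at h1
    simpa using h1
  have htd : t ∣ r ^ d - 1 := by
    rw [← ZMod.natCast_eq_zero_iff, Nat.cast_sub (Nat.one_le_pow _ _ hr.pos), sub_eq_zero]
    simp [hd, pow_orderOf_eq_one]
  let K := GaloisField r d
  have hK : Nat.card K = r ^ d := GaloisField.card r d (by omega)
  haveI : Finite K := Nat.finite_of_card_ne_zero (by rw [hK]; exact pow_ne_zero _ hr.ne_zero)
  haveI : Fintype K := Fintype.ofFinite K
  have hKu : t ∣ Nat.card Kˣ := by rw [Nat.card_units, hK]; exact htd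
  obtain ⟨ζ, hζ⟩ := exists_prime_orderOf_dvd_card' t hKu
  have hζ1 : (ζ : K) ≠ 1 := fun h => by
    rw [Units.val_eq_one] at h
    rw [h, orderOf_one] at hζ
    exact ht.one_lt.ne hζ
  let C := Subgroup.zpowers ζ
  have hC : Nat.card C = t := by rw [Nat.card_zpowers, hζ]
  let φ : C →* MulAut (Multiplicative K) :=
    { toFun := fun c => AddEquiv.toMultiplicative
        { toFun := fun v => ((c : Kˣ) : K) * v
          invFun := fun v => (((c : Kˣ)⁻¹ : Kˣ) : K) * v
          left_inv := fun v => by simp [← mul_assoc]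
          right_inv := fun v => by simp [← mul_assoc]
          map_add' := fun v w => mul_add _ _ _ }
      map_one' := by ext v; simp
      map_mul' := fun a b => by ext v; simp [mul_assoc] }
  have hφ : ∀ (c : C) (v : Multiplicative K),
      φ c v = Multiplicative.ofAdd (((c : Kˣ) : K) * Multiplicative.toAdd v) := fun c v => rfl
  haveI : Finite (Multiplicative K ⋊[φ] C) := Finite.of_equiv _ SemidirectProduct.equivProd.symm
  have hcardG : Nat.card (Multiplicative K ⋊[φ] C) = r ^ d * t := by
    rw [SemidirectProduct.card, hC]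
    exact congrArg (· * t) hK
  have hCt : ∀ c : C, c ^ t = 1 := fun c => by rw [← hC]; exact pow_card_eq_one'
  -- powers
  have hpow : ∀ (g : (Multiplicative K ⋊[φ] C)) (n : ℕ), (g ^ n).right = g.right ^ n ∧
      Multiplicative.toAdd (g ^ n).left =
        (∑ i ∈ Finset.range n, ((g.right : Kˣ) : K) ^ i) * Multiplicative.toAdd g.left := by
    intro g n
    induction n with
    | zero => simp
    | succ n ih =>
      obtain ⟨h1, h2⟩ := ih
      refine ⟨by rw [pow_succ, mul_right, h1, pow_succ], ?_⟩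
      rw [pow_succ, mul_left, toAdd_mul, hφ, toAdd_ofAdd, h2, h1, Finset.sum_range_succ, add_mul]
      simp
  have hpr : ∀ g : (Multiplicative K ⋊[φ] C), g.right = 1 → g ^ r = 1 := by
    intro g hg
    ext
    · apply Multiplicative.toAdd.injective
      rw [(hpow g r).2, hg]
      simp
    · simp [(hpow g r).1, hg]
  have hpt : ∀ g : (Multiplicative K ⋊[φ] C), g.right ≠ 1 → g ^ t = 1 := by
    intro g hg
    ext
    · apply Multiplicative.toAdd.injective
      rw [(hpow g t).2]
      have h1 : ((g.right : Kˣ) : K) ^ t = 1 := by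
        rw [← Units.val_pow_eq_pow_val, ← SubmonoidClass.coe_pow, hCt]
        rfl
      have h2 : ((g.right : Kˣ) : K) - 1 ≠ 0 := by
        rw [sub_ne_zero, Ne, Units.val_eq_one]
        exact fun h => hg (Subtype.ext h)
      have h3 := geom_sum_mul ((g.right : Kˣ) : K) t
      rw [h1, sub_self, mul_eq_zero] at h3
      rw [h3.resolve_right h2]
      simp
    · rw [(hpow g t).1, hCt, one_right]
  have hord : ∀ g : (Multiplicative K ⋊[φ] C), (g.right = 1 → g ≠ 1 → orderOf g = r) ∧ (g.right ≠ 1 → orderOf g = t) := by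
    intro g
    refine ⟨fun h h1 => orderOf_eq_prime (hpr g h) h1, fun h => orderOf_eq_prime (hpt g h) ?_⟩
    rintro rfl
    exact h rfl
  have hright : ∀ g : (Multiplicative K ⋊[φ] C), orderOf g = r → g.right = 1 := by
    intro g hg
    by_contra h
    rw [(hord g).2 h] at hg
    exact hrt hg.symm
  have hrightt : ∀ g : (Multiplicative K ⋊[φ] C), orderOf g = t → g.right ≠ 1 := by
    intro g hg h
    by_cases h1 : g = 1
    · rw [h1, orderOf_one] at hg; exact ht.one_lt.ne hg
    · rw [(hord g).1 h h1] at hg; exact hrt hg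
  have hconj : ∀ (g : Multiplicative K ⋊[φ] C) (w : Multiplicative K), g * inl w * g⁻¹ =
      inl (Multiplicative.ofAdd (((g.right : Kˣ) : K) * Multiplicative.toAdd w)) := by
    intro g w
    have h1 : g * inl w * g⁻¹ = inl (φ g.right w) := by
      conv_lhs => rw [← inl_left_mul_inr_right g]
      rw [mul_inv_rev, show inl g.left * inr g.right * inl w * ((inr g.right)⁻¹ * (inl g.left)⁻¹) =
        inl g.left * (inr g.right * inl w * (inr g.right)⁻¹) * (inl g.left)⁻¹ by group,
        ← map_inv inr, ← inl_aut, ← map_inv, ← map_mul, ← map_mul, mul_comm g.left, mul_inv_cancel_right]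
    rw [h1, hφ]
  -- the key step
  have key : ∀ H : Subgroup (Multiplicative K ⋊[φ] C), (∃ v : Multiplicative K, v ≠ 1 ∧ (inl v : (Multiplicative K ⋊[φ] C)) ∈ H) →
      (∀ v : Multiplicative K, (inl v : (Multiplicative K ⋊[φ] C)) ∈ H →
        (inl (Multiplicative.ofAdd ((ζ : K) * Multiplicative.toAdd v)) : (Multiplicative K ⋊[φ] C)) ∈ H) →
      ∀ v : Multiplicative K, (inl v : (Multiplicative K ⋊[φ] C)) ∈ H := by
    intro H ⟨v₀, hv₀, hv₀H⟩ hinv
    let W : AddSubgroup K :=
      { carrier := {v | (inl (Multiplicative.ofAdd v) : (Multiplicative K ⋊[φ] C)) ∈ H}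
        zero_mem' := by
          show (inl (Multiplicative.ofAdd 0) : (Multiplicative K ⋊[φ] C)) ∈ H
          rw [ofAdd_zero, map_one]; exact H.one_mem
        add_mem' := fun {a b} ha hb => by
          show (inl (Multiplicative.ofAdd (a + b)) : (Multiplicative K ⋊[φ] C)) ∈ H
          rw [ofAdd_add, map_mul]; exact H.mul_mem ha hb
        neg_mem' := fun {a} ha => by
          show (inl (Multiplicative.ofAdd (-a)) : (Multiplicative K ⋊[φ] C)) ∈ H
          rw [ofAdd_neg, map_inv]; exact H.inv_mem ha }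
    let S : Subfield K :=
      { carrier := {c | ∀ v ∈ W, c * v ∈ W}
        one_mem' := fun v hv => by rwa [one_mul]
        mul_mem' := fun {a b} ha hb v hv => by rw [mul_assoc]; exact ha _ (hb v hv)
        zero_mem' := fun v hv => by rw [zero_mul]; exact W.zero_mem
        add_mem' := fun {a b} ha hb v hv => by rw [add_mul]; exact W.add_mem (ha v hv) (hb v hv)
        neg_mem' := fun {a} ha v hv => by rw [neg_mul]; exact W.neg_mem (ha v hv)
        inv_mem' := fun a ha v hv => by
          by_cases ha0 : a = 0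
          · rw [ha0, inv_zero, zero_mul]; exact W.zero_mem
          let f : W → W := fun w => ⟨a * w, ha w w.2⟩
          have hf : Function.Injective f := fun w w' h =>
            Subtype.ext (mul_left_cancel₀ ha0 (congrArg Subtype.val h))
          obtain ⟨w, hw⟩ := (Finite.injective_iff_surjective.1 hf) ⟨v, hv⟩
          have hw' : a * w = v := congrArg Subtype.val hw
          rw [← hw', ← mul_assoc, inv_mul_cancel₀ ha0, one_mul]
          exact w.2 }
    have hζS : (ζ : K) ∈ S := fun v hv => hinv (Multiplicative.ofAdd v) hv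
    obtain ⟨e, he, hSe⟩ : ∃ e ≤ d, Nat.card S = r ^ e := by
      apply (Nat.dvd_prime_pow hr).1
      rw [← hK]
      exact AddSubgroup.card_addSubgroup_dvd_card S.toSubring.toAddSubgroup
    have hS2 : 1 < Nat.card S := Finite.one_lt_card
    have he1 : e ≠ 0 := fun h => by rw [hSe, h] at hS2; simp at hS2
    have hz0 : (⟨(ζ : K), hζS⟩ : S) ≠ 0 := fun h => ζ.ne_zero (congrArg Subtype.val h)
    have hte : t ∣ r ^ e - 1 := by
      have h1 : orderOf (Units.mk0 (⟨(ζ : K), hζS⟩ : S) hz0) = t := by
        rw [← orderOf_units, Units.val_mk0,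
          ← orderOf_injective (S.subtype.toMonoidHom) (RingHom.injective _)]
        simpa [orderOf_units] using hζ
      rw [← h1, ← hSe, ← Nat.card_units]
      exact orderOf_dvd_natCard _
    have hed : e = d := le_antisymm he (Nat.le_of_dvd (Nat.pos_of_ne_zero he1) (hdiv e hte))
    have hStop : ∀ c : K, c ∈ S := by
      have h2 : S.toSubring.toAddSubgroup = ⊤ := by
        apply AddSubgroup.eq_top_of_card_eq
        refine hSe.trans ?_
        exact (congrArg (r ^ ·) hed).trans hK.symm
      intro c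
      have : c ∈ S.toSubring.toAddSubgroup := by rw [h2]; trivial
      exact this
    intro v
    have hv0 : Multiplicative.toAdd v₀ ≠ 0 := fun h => hv₀ (by
      apply Multiplicative.toAdd.injective
      simpa using h)
    have hW : Multiplicative.toAdd v ∈ W := by
      have := hStop (Multiplicative.toAdd v / Multiplicative.toAdd v₀) _
        (show Multiplicative.toAdd v₀ ∈ W from hv₀H)
      rwa [div_mul_cancel₀ _ hv0] at this
    exact hW
  have hleft : ∀ g : (Multiplicative K ⋊[φ] C), g.right = 1 → g = inl g.left := fun g h => by ext <;> simp [h]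
  refine ⟨(Multiplicative K ⋊[φ] C), inferInstance, inferInstance, ?_, ?_, ?_, ?_, ?_, ⟨d, hd1, hcardG, ?_⟩⟩
  · intro g
    by_cases h1 : g = 1
    · left; rw [h1, orderOf_one]
    by_cases h : g.right = 1
    · exact Or.inr (Or.inl ((hord g).1 h h1))
    · exact Or.inr (Or.inr ((hord g).2 h))
  · exact exists_prime_orderOf_dvd_card' r (hcardG ▸ Dvd.dvd.mul_right (dvd_pow_self r (by omega)) t)
  · exact exists_prime_orderOf_dvd_card' t (hcardG ▸ dvd_mul_left t _)
  · rintro H ⟨x, hx, hxr⟩ ⟨y, hy, hyt⟩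
    have hy1 := hrightt y hyt
    obtain ⟨j, hj⟩ : ∃ j : ℤ, y.right ^ j = (⟨ζ, Subgroup.mem_zpowers ζ⟩ : C) := by
      have h : Subgroup.zpowers y.right = ⊤ := zpowers_eq_top_of_prime_card hC hy1
      exact Subgroup.mem_zpowers_iff.1 (h ▸ Subgroup.mem_top _)
    have hyj : (y ^ j).right = (⟨ζ, Subgroup.mem_zpowers ζ⟩ : C) := by
      exact (map_zpow (SemidirectProduct.rightHom (φ := φ)) y j).trans hj
    have hx1 : x ≠ 1 := fun h => by rw [h, orderOf_one] at hxr; exact hr.one_lt.ne hxr
    have hall := key H ⟨x.left, fun h => hx1 (by rw [hleft x (hright x hxr), h, map_one]),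
      hleft x (hright x hxr) ▸ hx⟩ (fun v hv => by
        have h1 := H.mul_mem (H.mul_mem (H.zpow_mem hy j) hv) (H.inv_mem (H.zpow_mem hy j))
        rwa [hconj, hyj] at h1)
    rw [eq_top_iff]
    intro g _
    obtain ⟨i, hi⟩ : ∃ i : ℤ, y.right ^ i = g.right := by
      have h : Subgroup.zpowers y.right = ⊤ := zpowers_eq_top_of_prime_card hC hy1
      exact Subgroup.mem_zpowers_iff.1 (h ▸ Subgroup.mem_top _)
    have hyi : (y ^ i).right = g.right := by
      exact (map_zpow (SemidirectProduct.rightHom (φ := φ)) y i).trans hi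
    have h2 : (g * (y ^ i)⁻¹).right = 1 := by rw [mul_right, inv_right, hyi]; exact mul_inv_cancel _
    have h3 : (g * (y ^ i)⁻¹) * y ^ i ∈ H := H.mul_mem ((hleft _ h2).symm ▸ hall _) (H.zpow_mem hy i)
    convert h3 using 1; group
  · intro N hN hN1 x hx
    obtain ⟨n, hn, hn1⟩ : ∃ n ∈ N, n ≠ 1 := by
      by_contra h
      simp only [not_exists, not_and, not_not] at h
      exact hN1 ((Subgroup.eq_bot_iff_forall _).2 h)
    obtain ⟨v, hv1, hv⟩ : ∃ v : Multiplicative K, v ≠ 1 ∧ (inl v : (Multiplicative K ⋊[φ] C)) ∈ N := by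
      by_cases h : n.right = 1
      · exact ⟨n.left, fun h' => hn1 (by rw [hleft n h, h', map_one]), hleft n h ▸ hn⟩
      · let u : Multiplicative K := Multiplicative.ofAdd 1
        have hc : n * inl u * n⁻¹ * (inl u)⁻¹ ∈ N := by
          have := N.mul_mem hn (hN.conj_mem _ (N.inv_mem hn) (inl u))
          simpa [mul_assoc] using this
        rw [hconj, ← map_inv, ← map_mul] at hc
        refine ⟨_, ?_, hc⟩
        intro h'
        have h'' := congrArg Multiplicative.toAdd h'
        rw [toAdd_mul, toAdd_ofAdd, toAdd_inv, toAdd_one] at h''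
        simp only [u, toAdd_ofAdd, mul_one] at h''
        apply h
        apply Subtype.ext
        apply Units.ext
        rw [← sub_eq_add_neg, sub_eq_zero] at h''
        simpa using h''
    rw [hleft x (hright x hx)]
    refine key N ⟨v, hv1, hv⟩ (fun w hw => ?_) _
    have := hN.conj_mem _ hw (inr ⟨ζ, Subgroup.mem_zpowers ζ⟩)
    rwa [hconj, right_inr] at this
  · intro hd'
    rw [hd', pow_one] at htd
    exact htd

end Cfsg.Agent.H69.MinFrobenius
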